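import Groth.Agent.ResProp.EF.K926.HRes
import Groth.Agent.ResProp.EF.K353.Defs

/-!
# Characteristic of the resolutions of residue fields (S16912, OverZ)

`L = Res κ(x)`: `K353.Char0 L` if `κ(x)` is of characteristic `0`, `K353.CharP p L` if `p = 0` in `κ(x)`.
-/

set_option autoImplicit false
set_option backward.defeqAttrib.useBackward true
set_option backward.isDefEq.respectTransparency false

universe u

open CategoryTheory CategoryTheory.Limits MonoidalCategory HomologicalComplex

namespace Groth.Agent.ResProp.EF.K408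

open Groth.Agent.PerfB.RingKFlat Groth.Agent.Dcoh.CxFun Groth.Agent.ResProp.EF.K294 Groth.Agent.ResProp.EF.K926

variable {A : Type u} [CommRing A]

attribute [local instance] HasDerivedCategory.standard in
/-- maps out of bounded above complexes of projectives which vanish after a quasi-isomorphism are null-homotopic -/
theorem homotopy_zero {L L' M : CM A} (b : ℤ) [L.IsStrictlyLE b] (hL : ∀ n, Projective (L.X n)) (φ : L ⟶ L')
    (ε : L' ⟶ M) [QuasiIso ε] (h : φ ≫ ε = 0) : Nonempty (Homotopy φ 0) := by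
  have h1 : L.IsKProjective := CochainComplex.isKProjective_of_projective L b
  have h2 : (HomotopyCategory.quotient (ModuleCat.{u} A) (ComplexShape.up ℤ)).map φ = 0 := by
    refine (CochainComplex.IsKProjective.Qh_map_bijective L _).injective ?_
    rw [Functor.map_zero]
    have h3 : IsIso (DerivedCategory.Q.map ε) := inferInstance
    have h4 : IsIso (DerivedCategory.Qh.map
        ((HomotopyCategory.quotient (ModuleCat.{u} A) (ComplexShape.up ℤ)).map ε)) :=
      (NatIso.isIso_map_iff (DerivedCategory.quotientCompQhIso (ModuleCat.{u} A)) ε).2 h3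
    rw [← cancel_mono (DerivedCategory.Qh.map
        ((HomotopyCategory.quotient (ModuleCat.{u} A) (ComplexShape.up ℤ)).map ε)), zero_comp, ← Functor.map_comp,
      ← Functor.map_comp, h, Functor.map_zero, Functor.map_zero]
  exact ⟨HomotopyCategory.homotopyOfEq _ _ (h2.trans (Functor.map_zero _ _ _).symm)⟩

lemma zsmul_tens (K L : CM A) (n : ℤ) (i : ℤ) (x : (tens K L).homology i) :
    (homologyMap (((TR A).map₂CochainComplex.obj K).map (n • 𝟙 L)) i).hom x = n • x := by
  have h1 : homologyMap (((TR A).map₂CochainComplex.obj K).map (n • 𝟙 L)) i = n • 𝟙 _ := by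
    rw [Functor.map_zsmul, CategoryTheory.Functor.map_id]
    change (homologyFunctor (ModuleCat.{u} A) (ComplexShape.up ℤ) i).map _ = _
    rw [Functor.map_zsmul, CategoryTheory.Functor.map_id]
    rfl
  rw [h1]
  rfl

lemma zsmul_single (M : ModuleCat.{u} A) (n : ℤ) :
    n • 𝟙 ((single (ModuleCat.{u} A) (ComplexShape.up ℤ) 0).obj M) =
      (single (ModuleCat.{u} A) (ComplexShape.up ℤ) 0).map (n • 𝟙 M) := by
  rw [Functor.map_zsmul, CategoryTheory.Functor.map_id]

/-- `L ⟶ M[0]` a projective resolution, `p` kills `M` -/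
theorem charP_of {L : CM A} [L.IsStrictlyLE 0] (hL : ∀ n, Projective (L.X n)) {M : ModuleCat.{u} A}
    (ε : L ⟶ (single (ModuleCat.{u} A) (ComplexShape.up ℤ) 0).obj M) [QuasiIso ε] (p : ℕ)
    (hp : ∀ m : M, (p : ℤ) • m = 0) : K353.CharP p L := by
  intro K i x
  have h0 : (p : ℤ) • 𝟙 M = 0 := by
    ext m
    exact hp m
  have h1 : ((p : ℤ) • 𝟙 L) ≫ ε = 0 := by
    rw [Preadditive.zsmul_comp, Category.id_comp, ← Category.comp_id ((p : ℤ) • ε), Preadditive.zsmul_comp,
      ← Preadditive.comp_zsmul, zsmul_single, h0, Functor.map_zero, comp_zero]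
  obtain ⟨h⟩ := homotopy_zero 0 hL _ ε h1
  obtain ⟨h2⟩ := HtpyFunctor.homotopy ((TR A).map₂CochainComplex.obj K) h
  rw [← zsmul_tens, h2.homologyMap_eq, Functor.map_zero, homologyMap_zero]
  rfl

/-- `L ⟶ M[0]` a projective resolution, `M` a vector space over `ℚ` -/
theorem char0_of {L : CM A} [L.IsStrictlyLE 0] (hL : ∀ n, Projective (L.X n)) {M : ModuleCat.{u} A}
    (ε : L ⟶ (single (ModuleCat.{u} A) (ComplexShape.up ℤ) 0).obj M) [QuasiIso ε]
    (hM : ∀ n : ℕ, n ≠ 0 → Function.Bijective (fun m : M => (n : ℤ) • m)) : K353.Char0 L := by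
  intro n hn K i
  have h0 : IsIso ((n : ℤ) • 𝟙 M) := by
    rw [ConcreteCategory.isIso_iff_bijective]
    exact hM n hn
  have h1 : ((n : ℤ) • 𝟙 L) ≫ ε = ε ≫ (single (ModuleCat.{u} A) (ComplexShape.up ℤ) 0).map ((n : ℤ) • 𝟙 M) := by
    rw [← zsmul_single, Preadditive.zsmul_comp, Category.id_comp, Preadditive.comp_zsmul, Category.comp_id]
  have h2 : QuasiIso (((n : ℤ) • 𝟙 L) ≫ ε) := by
    rw [h1]
    infer_instance
  have h3 : QuasiIso ((n : ℤ) • 𝟙 L) := quasiIso_of_comp_right _ ε
  have h4 := quasiIso_tens 0 hL hL ((n : ℤ) • 𝟙 L) K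
  have h5 : IsIso (homologyMap (((TR A).map₂CochainComplex.obj K).map ((n : ℤ) • 𝟙 L)) i) := inferInstance
  have h6 := (ConcreteCategory.isIso_iff_bijective _).1 h5
  have h7 : (fun x : (tens K L).homology i => (n : ℤ) • x) =
      fun x => (homologyMap (((TR A).map₂CochainComplex.obj K).map ((n : ℤ) • 𝟙 L)) i).hom x :=
    funext fun x => (zsmul_tens K L n i x).symm
  rw [h7]
  exact h6

lemma isTest_res (M : ModuleCat.{u} A) : IsTest ((Res A).obj M) :=
  ⟨isStrictlyLE_res M, flat_res_X M, res_exactAt M⟩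

/-- points of characteristic `p` -/
theorem charP_res (x : Ideal A) [x.IsPrime] (p : ℕ) (hp : (p : A) ∈ x) :
    K353.CharP p ((Res A).obj (ModuleCat.of A x.ResidueField)) := by
  have h0 := quasiIso_aug (ModuleCat.of A x.ResidueField)
  refine charP_of (projective_res_X _) (aug (ModuleCat.of A x.ResidueField)) p fun m => ?_
  change (p : ℤ) • (m : x.ResidueField) = 0
  have h1 : algebraMap A x.ResidueField (p : A) = 0 := Ideal.algebraMap_residueField_eq_zero.2 hp
  rw [map_natCast] at h1
  rw [natCast_zsmul, nsmul_eq_mul, h1, zero_mul]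

/-- points of characteristic `0` -/
theorem char0_res (x : Ideal A) [x.IsPrime] (hx : ∀ n : ℕ, n ≠ 0 → (n : A) ∉ x) :
    K353.Char0 ((Res A).obj (ModuleCat.of A x.ResidueField)) := by
  have h0 := quasiIso_aug (ModuleCat.of A x.ResidueField)
  refine char0_of (projective_res_X _) (aug (ModuleCat.of A x.ResidueField)) fun n hn => ?_
  have h1 : (n : x.ResidueField) ≠ 0 := by
    intro h
    refine hx n hn (Ideal.algebraMap_residueField_eq_zero.1 ?_)
    rw [map_natCast]
    exact h
  change Function.Bijective (fun m : x.ResidueField => (n : ℤ) • m)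
  have h2 : (fun m : x.ResidueField => (n : ℤ) • m) = fun m => (n : x.ResidueField) * m := by
    funext m
    rw [natCast_zsmul, nsmul_eq_mul]
  rw [h2]
  exact mulLeft_bijective₀ _ h1

end Groth.Agent.ResProp.EF.K408
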