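import Groth.Agent.ResProp.EF.K408.Proj
import Groth.Agent.ResProp.EF.K353.Defs
import Groth.Agent.ResProp.EF.K78.FlatBdd
import Groth.Agent.ResProp.EF.F5.Iface

/-!
# Transfer of hits along a flat localization of the base (seam LOC, L4)

`ρ : D ⥤ C` (restriction of comodules from `A_k` to `A`), `us ∘ ρ = res ∘ us'`. Classes of `H^j(us(ρ Y) ⊗_R L)` are the
classes of `H^j(us' Y ⊗_S (S ⊗_R L))`; hits and lower Tor bounds are transported.
-/

set_option autoImplicit false
set_option backward.defeqAttrib.useBackward true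
set_option backward.isDefEq.respectTransparency false

universe w' v' w v u

open CategoryTheory CategoryTheory.Limits MonoidalCategory HomologicalComplex TensorProduct

namespace Groth.Agent.ResProp.EF.K408

open Groth.Agent.PerfB.RingKFlat Groth.Agent.PerfB Groth.Agent.ResProp.EF.K294

variable {R S : Type u} [CommRing R] [CommRing S] [Algebra R S]

variable (R S) in
/-- homology commutes with restriction of scalars -/
noncomputable def homRes (j : ℤ) : resC R S ⋙ homologyFunctor (ModuleCat.{u} R) (ComplexShape.up ℤ) j ≅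
    homologyFunctor (ModuleCat.{u} S) (ComplexShape.up ℤ) j ⋙ res R S :=
  NatIso.ofComponents (fun K => (K.sc j).mapHomologyIso (res R S)) (fun f =>
    ShortComplex.mapHomologyIso_hom_naturality ((shortComplexFunctor _ _ j).map f) (res R S))

section

variable {C : Type v} [Category.{w} C] [Abelian C] (us : C ⥤ ModuleCat.{u} R) [us.Additive]
  {D : Type v'} [Category.{w'} D] [Abelian D] (us' : D ⥤ ModuleCat.{u} S) [us'.Additive]
  (ρ : D ⥤ C) [ρ.Additive] (β : ρ ⋙ us ≅ us' ⋙ res R S)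

/-- restriction of complexes -/
noncomputable abbrev rhoC : CochainComplex D ℤ ⥤ CochainComplex C ℤ := ρ.mapHomologicalComplex (ComplexShape.up ℤ)

/-- `v^*` commutes with restriction -/
noncomputable def vRes : rhoC ρ ⋙ K353.vC us ≅ K353.vC us' ⋙ resC R S :=
  NatIso.ofComponents (fun Y => HomologicalComplex.Hom.isoOfComponents (fun n => β.app (Y.X n))
    (fun i j _ => (β.hom.naturality (Y.d i j)).symm)) (fun {Y Y'} f => by
      refine HomologicalComplex.hom_ext _ _ fun n => ?_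
      exact β.hom.naturality (f.f n))

/-- the comparison of the classes -/
noncomputable def hhIso (L : CM R) (j : ℤ) :
    rhoC ρ ⋙ K353.hh us L j ≅ K353.hh us' ((extC R S).obj L) j ⋙ res R S :=
  (Functor.associator _ _ _).symm ≪≫
    Functor.isoWhiskerRight (vRes us us' ρ β) (tensR L ⋙ homologyFunctor _ _ j) ≪≫
    Functor.associator _ _ _ ≪≫
    Functor.isoWhiskerLeft (K353.vC us') ((Functor.associator _ _ _).symm ≪≫
      Functor.isoWhiskerRight (projNat L) (homologyFunctor _ _ j) ≪≫ Functor.associator _ _ _ ≪≫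
      Functor.isoWhiskerLeft (tensR ((extC R S).obj L)) (homRes R S j))

/-- classes over `S` are hit by complexes which are perfect on the chart -/
def LocHits (L' : CM S) (j : ℤ) : Prop := ∀ Y : CochainComplex D ℤ, K353.Bdd Y → ∀ y : (K353.hh us' L' j).obj Y,
  ∃ (T : CochainComplex D ℤ) (f : T ⟶ Y) (t : (K353.hh us' L' j).obj T), K353.Bdd T ∧
    (∃ (Q : CM S) (l : Q ⟶ (K353.vC us').obj T), F5.Perf Q ∧ QuasiIso l) ∧ ((K353.hh us' L' j).map f).hom t = y

variable {us us' ρ}

lemma torGE_of_perf {Q : CM S} (hQ : F5.Perf Q) : ∃ a : ℤ, TorGE a Q := by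
  obtain ⟨a, b, h1, h2⟩ := hQ.bdd
  refine ⟨a, K78.torGE_of_flat Q a b fun i => ?_⟩
  have := hQ.proj i
  infer_instance

lemma torGE_of_quasiIso_perf {Q K : CM S} (hQ : F5.Perf Q) (l : Q ⟶ K) (hl : QuasiIso l) : ∃ a : ℤ, TorGE a K := by
  obtain ⟨a, ha⟩ := torGE_of_perf hQ
  exact ⟨a, (torGE_iff_of_quasiIso l).1 ha⟩

lemma span_aux {q : ℕ} (hS : ∀ s : S, ∃ n : ℕ, n.Coprime q ∧ ∃ r : R, (n : S) * s = algebraMap R S r)
    {H : Type u} [AddCommGroup H] [Module S H] [Module R H] [IsScalarTower R S H] (g : Set H) (z : H)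
    (hz : z ∈ Submodule.span S g) :
    ∃ n : ℕ, n.Coprime q ∧ (n : ℤ) • z ∈ Submodule.span R g := by
  induction hz using Submodule.span_induction with
  | mem x hx =>
    refine ⟨1, Nat.coprime_one_left q, ?_⟩
    rw [Nat.cast_one, one_smul]
    exact Submodule.subset_span hx
  | zero => exact ⟨1, Nat.coprime_one_left q, by rw [smul_zero]; exact Submodule.zero_mem _⟩
  | add x y _ _ hx hy =>
    obtain ⟨n, hn, h1⟩ := hx
    obtain ⟨m, hm, h2⟩ := hy
    refine ⟨n * m, hn.mul_left hm, ?_⟩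
    have e : ((n * m : ℕ) : ℤ) • (x + y) = (m : ℤ) • ((n : ℤ) • x) + (n : ℤ) • ((m : ℤ) • y) := by
      rw [smul_smul, smul_smul, Nat.cast_mul, mul_comm (m : ℤ) n, ← smul_add]
    rw [e]
    exact Submodule.add_mem _ (zsmul_mem h1 _) (zsmul_mem h2 _)
  | smul s x _ hx =>
    obtain ⟨n, hn, h1⟩ := hx
    obtain ⟨m, hm, r, hr⟩ := hS s
    refine ⟨m * n, hm.mul_left hn, ?_⟩
    have e : ((m * n : ℕ) : ℤ) • (s • x) = r • ((n : ℤ) • x) := by
      rw [← algebraMap_smul S r, ← hr, natCast_zsmul, natCast_zsmul, mul_smul, mul_smul, Nat.cast_smul_eq_nsmul,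
        smul_comm s n x]
    rw [e]
    exact Submodule.smul_mem _ r h1

/-- finiteness of the cohomology of the restriction over `R_(q)` -/
lemma fgCoh_res {q : ℕ} (hS : ∀ s : S, ∃ n : ℕ, n.Coprime q ∧ ∃ r : R, (n : S) * s = algebraMap R S r) {K : CM S}
    (hK : ∀ i : ℤ, Module.Finite S (K.homology i)) : K353.FgCoh q ((resC R S).obj K) := by
  classical
  intro i
  obtain ⟨g, hg⟩ := (hK i).fg_top
  let e : ((resC R S).obj K).homology i ≃ₗ[R] (res R S).obj (K.homology i) := ((homRes R S i).app K).toLinearEquiv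
  refine ⟨g.image (fun z => e.symm z), fun x => ?_⟩
  let _ : Module R (K.homology i) := Module.compHom _ (algebraMap R S)
  have : IsScalarTower R S (K.homology i) := IsScalarTower.of_algebraMap_smul fun _ _ => rfl
  obtain ⟨n, hn, h1⟩ := span_aux (R := R) hS (g : Set (K.homology i)) (e x) (by rw [hg]; trivial)
  refine ⟨n, hn, ?_⟩
  have h2 := Submodule.mem_map_of_mem (f := e.symm.toLinearMap) h1
  rw [Submodule.map_span] at h2
  have h3 : e.symm.toLinearMap ((n : ℤ) • (e x)) = (n : ℤ) • x := by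
    rw [map_zsmul]
    congr 1
    exact e.symm_apply_apply x
  rw [Finset.coe_image, ← h3]
  exact h2

lemma fgCoh_of_iso {q : ℕ} {K K' : CM R} (e : K ≅ K') (h : K353.FgCoh q K) : K353.FgCoh q K' := by
  classical
  intro i
  obtain ⟨g, hg⟩ := h i
  let l : K.homology i ≃ₗ[R] K'.homology i := ((homologyFunctor _ _ i).mapIso e).toLinearEquiv
  refine ⟨g.image (fun z => l z), fun x => ?_⟩
  obtain ⟨n, hn, h1⟩ := hg (l.symm x)
  refine ⟨n, hn, ?_⟩
  have h2 := Submodule.mem_map_of_mem (f := l.toLinearMap) h1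
  rw [Submodule.map_span] at h2
  have h3 : l.toLinearMap ((n : ℤ) • (l.symm x)) = (n : ℤ) • x := by
    rw [map_zsmul]
    congr 1
    exact l.apply_symm_apply x
  rw [Finset.coe_image, ← h3]
  exact h2

lemma finite_homology_of_perf [IsNoetherianRing S] {Q K : CM S} (hQ : F5.Perf Q) (l : Q ⟶ K) (hl : QuasiIso l) (i : ℤ) :
    Module.Finite S (K.homology i) := by
  have h1 : Module.Finite S (Q.homology i) := by
    have := hQ.fin i
    have : IsNoetherian S (Q.X i) := inferInstance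
    have h2 : Module.Finite S (Q.cycles i) := by
      have : Function.Injective (Q.iCycles i).hom := (ModuleCat.mono_iff_injective _).1 inferInstance
      exact Module.Finite.of_injective _ this
    have h3 : Function.Surjective (Q.homologyπ i).hom := (ModuleCat.epi_iff_surjective _).1 inferInstance
    exact Module.Finite.of_surjective _ h3
  have h4 : Q.homology i ≃ₗ[S] K.homology i := (asIso (homologyMap l i)).toLinearEquiv
  exact Module.Finite.equiv h4

/-- **the transfer of hits** -/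
theorem hitBy_of_locHits [Module.Flat R S] {q : ℕ} {L : CM R} {j : ℤ} (P : CochainComplex C ℤ → Prop)
    (hP : ∀ T : CochainComplex D ℤ, K353.Bdd T →
      (∃ (Q : CM S) (l : Q ⟶ (K353.vC us').obj T), F5.Perf Q ∧ QuasiIso l) → P ((rhoC ρ).obj T))
    (β : ρ ⋙ us ≅ us' ⋙ res R S)
    (hloc : ∀ Y : CochainComplex C ℤ, K353.Bdd Y → K353.QLoc q Y →
      ∃ Y' : CochainComplex D ℤ, K353.Bdd Y' ∧ Nonempty ((rhoC ρ).obj Y' ≅ Y))
    (H : LocHits us' ((extC R S).obj L) j) (Y : CochainComplex C ℤ) (hY : K353.Bdd Y) (hY' : K353.QLoc q Y)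
    (y : (K353.hh us L j).obj Y) : K353.HitBy us L j P Y y := by
  obtain ⟨Y', hY', ⟨e⟩⟩ := hloc Y hY hY'
  let ι := hhIso us us' ρ β L j
  let y' : (K353.hh us' ((extC R S).obj L) j).obj Y' := (ι.hom.app Y').hom (((K353.hh us L j).map e.inv).hom y)
  obtain ⟨T', f', t', hT', ⟨Q, l, hQ, hl⟩, ht⟩ := H Y' hY' y'
  obtain ⟨a, ha⟩ := torGE_of_quasiIso_perf hQ l hl
  refine ⟨(rhoC ρ).obj T', (rhoC ρ).map f' ≫ e.hom, (ι.inv.app T').hom t', a, ?_, ?_, hP T' hT' ⟨Q, l, hQ, hl⟩, ?_⟩
  · obtain ⟨c, d, h1, h2⟩ := hT'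
    refine ⟨c, d, ?_, ?_⟩
    · rw [CochainComplex.isStrictlyGE_iff] at h1 ⊢
      exact fun i hi => ρ.map_isZero (h1 i hi)
    · rw [CochainComplex.isStrictlyLE_iff] at h2 ⊢
      exact fun i hi => ρ.map_isZero (h2 i hi)
  · exact TorGE.of_iso ((vRes us us' ρ β).app T').symm (torGE_res ha)
  · have h1 : ((K353.hh us L j).map ((rhoC ρ).map f')).hom ((ι.inv.app T').hom t') = (ι.inv.app Y').hom y' := by
      have h2 := congrArg (fun g => g.hom t') (ι.inv.naturality f')
      rw [← ht]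
      exact h2.symm
    rw [Functor.map_comp]
    change ((K353.hh us L j).map e.hom).hom (((K353.hh us L j).map ((rhoC ρ).map f')).hom ((ι.inv.app T').hom t')) = y
    rw [h1]
    have h3 : (ι.inv.app Y').hom y' = ((K353.hh us L j).map e.inv).hom y := by
      have h4 := congrArg (fun g => g.hom (((K353.hh us L j).map e.inv).hom y)) (ι.hom_inv_id_app Y')
      exact h4
    rw [h3]
    have h5 := congrArg (fun g => g.hom y) ((K353.hh us L j).mapIso e).inv_hom_id
    exact h5

variable (hfl : Module.Flat R S) {q : ℕ} {L : CM R} {j : ℤ} (β : ρ ⋙ us ≅ us' ⋙ res R S)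
  (hQ : ∀ M : D, K353.QLocO q (ρ.obj M))
  (hloc : ∀ Y : CochainComplex C ℤ, K353.Bdd Y → K353.QLoc q Y →
      ∃ Y' : CochainComplex D ℤ, K353.Bdd Y' ∧ Nonempty ((rhoC ρ).obj Y' ≅ Y))
  (H : LocHits us' ((extC R S).obj L) j)

include hfl β hQ hloc H

/-- **output 1**: the hypothesis `Hq` of OverZ -/
theorem hq_of_locHits : K353.Hq us L j q := fun Y hY hY' y =>
  hitBy_of_locHits (K353.QLoc q) (fun T _ _ i => hQ (T.X i)) β hloc H Y hY hY' y

/-- **output 2**: the hypothesis `HqFg` of OverZ -/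
theorem hqFg_of_locHits [IsNoetherianRing S]
    (hS : ∀ s : S, ∃ n : ℕ, n.Coprime q ∧ ∃ r : R, (n : S) * s = algebraMap R S r) : K353.HqFg us L j q :=
  fun Y hY hY' y => hitBy_of_locHits (fun T => K353.QLoc q T ∧ K353.FgCoh q ((K353.vC us).obj T))
    (fun T _ ⟨_, l, hQ', hl⟩ => ⟨fun i => hQ (T.X i), fgCoh_of_iso ((vRes us us' ρ β).app T).symm
      (fgCoh_res hS (finite_homology_of_perf hQ' l hl))⟩) β hloc H Y hY hY' y

end

end Groth.Agent.ResProp.EF.K408
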