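import Groth.Agent.ResProp.EF.K408.HitLoc
import Mathlib.RingTheory.Localization.BaseChange
import Mathlib.RingTheory.SurjectiveOnStalks

/-!
# Resolutions of residue fields and localization of the base (seam LOC, L4)

`R → S` a localization at a submonoid, `M` an `S`-module, `ε : L ⟶ M[0]` a quasi-isomorphism over `R`: then
`S ⊗_R L ⟶ M[0]` is a quasi-isomorphism over `S`.
-/

set_option autoImplicit false
set_option backward.defeqAttrib.useBackward true
set_option backward.isDefEq.respectTransparency false

universe w' v' w v u

open CategoryTheory CategoryTheory.Limits MonoidalCategory HomologicalComplex TensorProduct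

namespace Groth.Agent.ResProp.EF.K408

open Groth.Agent.PerfB.RingKFlat Groth.Agent.PerfB Groth.Agent.ResProp.EF.K294

variable {R S : Type u} [CommRing R] [CommRing S] [Algebra R S]

lemma quasiIso_extC [Module.Flat R S] {L L' : CM R} (ε : L ⟶ L') [QuasiIso ε] : QuasiIso ((extC R S).map ε) := by
  have h0 := preservesHomology_tensorLeft (ModuleCat.of R S) ‹_›
  have h1 : QuasiIso (((tensorLeft (ModuleCat.of R S)).mapHomologicalComplex (ComplexShape.up ℤ)).map ε) := inferInstance
  have h2 : QuasiIso ((resC R S).map ((extC R S).map ε)) := by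
    let e := NatIso.mapHomologicalComplex (extResIso R S) (ComplexShape.up ℤ)
    exact (quasiIso_iff_of_arrow_mk_iso
      (((tensorLeft (ModuleCat.of R S)).mapHomologicalComplex (ComplexShape.up ℤ)).map ε) ((resC R S).map ((extC R S).map ε))
      (Arrow.isoMk (e.symm.app L) (e.symm.app L') (e.inv.naturality ε).symm)).1 h1
  exact (quasiIso_map_iff_of_preservesHomology ((extC R S).map ε) (res R S)).1 h2

/-- the counit `S ⊗_R M ≅ M` for a localization -/
noncomputable def counitIso (T : Submonoid R) [IsLocalization T S] (M : ModuleCat.{u} S) :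
    (ext R S).obj ((res R S).obj M) ≅ M :=
  letI : Module R M := Module.compHom M (algebraMap R S)
  haveI : IsScalarTower R S M := IsScalarTower.of_algebraMap_smul (fun _ _ => rfl)
  LinearEquiv.toModuleIso (X₁ := (ext R S).obj ((res R S).obj M)) (X₂ := M) (IsLocalization.moduleLid T S M)

theorem exists_extC_point (T : Submonoid R) [IsLocalization T S] (M : ModuleCat.{u} S) (L : CM R)
    (ε : L ⟶ (single (ModuleCat.{u} R) (ComplexShape.up ℤ) 0).obj ((res R S).obj M)) [QuasiIso ε] :
    ∃ ε' : (extC R S).obj L ⟶ (single (ModuleCat.{u} S) (ComplexShape.up ℤ) 0).obj M, QuasiIso ε' := by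
  have := IsLocalization.flat S T
  have h1 := quasiIso_extC (S := S) ε
  exact ⟨(extC R S).map ε ≫ (singleMapHomologicalComplex (ext R S) (ComplexShape.up ℤ) 0).hom.app ((res R S).obj M) ≫
    (single (ModuleCat.{u} S) (ComplexShape.up ℤ) 0).map (counitIso T M).hom, inferInstance⟩

end Groth.Agent.ResProp.EF.K408
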