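import Groth.Agent.ResProp.EF.K408.LocOut
import Groth.Agent.ResProp.EF.K353.Defs3
import Groth.Agent.ResProp.EF.K929.LocFin

/-!
# Seam LOC, final form: hits at the points of `A ⊗ ℤ_(q)` give `K353.HqFt` (finitely generated terms over `R_(q)`) for `A`
-/

set_option autoImplicit false
set_option backward.defeqAttrib.useBackward true
set_option backward.isDefEq.respectTransparency false

universe w' v' w v u

open CategoryTheory CategoryTheory.Limits MonoidalCategory HomologicalComplex TensorProduct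

namespace Groth.Agent.ResProp.EF.K408

open Groth.Agent.PerfB.RingKFlat Groth.Agent.PerfB Groth.Agent.ResProp.EF.K294

/-- finitely generated terms over `R_(q)` -/
theorem fgTer_res {R R' : Type u} [CommRing R] [CommRing R'] {f : R →+* R'} {q : ℕ} (hf : K929.FracQ f q) (K : CM R')
    (hK : ∀ i, Module.Finite R' (K.X i)) :
    K353.FgTer q (((ModuleCat.restrictScalars.{u} f).mapHomologicalComplex (ComplexShape.up ℤ)).obj K) := by
  intro i
  obtain ⟨s, hs⟩ := (hK i).fg_top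
  let _ : Module R (K.X i) := Module.compHom (K.X i) f
  refine ⟨s, fun x => ?_⟩
  exact hf.mem_span (M := K.X i) (fun r m => rfl) (s : Set (K.X i)) (x := x) (by rw [hs]; trivial)

open EF56 K784.BC K784.PM NAffine784 K940 Opposite

variable {A B : NFᵒᵖ ⥤ CommRingCat.{u}} {j : A ⟶ B} [Fact (GR A)] [Fact (GR B)]

/-- hits over the localized chart by complexes with finitely generated terms -/
theorem hitBy_ft [IsNoetherianRing (B.obj (op ⟨0⟩))] {L' : CM (B.obj (op ⟨0⟩))} (hL' : IsTest L') {i : ℤ}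
    (H : LocHits (vst B) L' i) (Y : CochainComplex (Comod B) ℤ) (hY : K353.Bdd Y)
    (y : (K353.hh (vst B) L' i).obj Y) :
    K353.HitBy (vst B) L' i (fun T => ∀ n, Module.Finite (B.obj (op ⟨0⟩)) ((vst B).obj (T.X n))) Y y := by
  obtain ⟨T, f, t, ⟨c, b, hc, hb⟩, ⟨Q, l, hQ, hl⟩, ht⟩ := H Y hY y
  obtain ⟨a, ha⟩ := torGE_of_quasiIso_perf hQ l hl
  obtain ⟨T₀, g, h1, h2, h3, h4⟩ := K929.exists_fg_sub (vst B) K929.locFG_vst T b
    (fun n => finite_homology_of_perf hQ l hl n)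
  have h5 : QuasiIso ((K353.vC (vst B)).map g) := inferInstance
  have h6 : QuasiIso ((tensR L').map ((K353.vC (vst B)).map g)) := hL'.kfl.quasiIso ((K353.vC (vst B)).map g)
  have h7 : IsIso (homologyMap ((tensR L').map ((K353.vC (vst B)).map g)) i) := inferInstance
  obtain ⟨t₀, ht₀⟩ := ((ConcreteCategory.isIso_iff_bijective _).1 h7).2 t
  refine ⟨T₀, g ≫ f, t₀, a, ⟨c, b, K929.isStrictlyGE_of_mono g h2 c, h1⟩,
    (torGE_iff_of_quasiIso ((K353.vC (vst B)).map g)).2 ha, h3, ?_⟩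
  rw [Functor.map_comp, ← ht]
  exact congrArg ((K353.hh (vst B) L' i).map f).hom ht₀

/-- hits over the localized groupoid ring give `HqFt` -/
theorem hqFt_of_loc {q : ℕ} [Fact q.Prime] (hj : CartHom j) (h : IsLocHom (SZ q) j) (L : CM (A.obj (op ⟨0⟩))) (i : ℤ)
    (H : ∀ Y : CochainComplex (Comod B) ℤ, K353.Bdd Y → ∀ y, K353.HitBy (vst B) (extL j L) i
      (fun T => ∀ n, Module.Finite (B.obj (op ⟨0⟩)) ((vst B).obj (T.X n))) Y y) :
    K353.HqFt (vst A) L i q := by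
  intro Y hY hq y
  refine HitBy.of_iso (vst A) (isoQ hj h Y hq) (fun y' => ?_) y
  refine hitBy_resC hj h.flat L i (fun T hT => ⟨qLoc_resC hj h T, ?_⟩) _ (H _ (bdd_map (bcC j) hY)) y'
  exact fgTer_res (fracQ_of_isLocHom h) ((K353.vC (vst B)).obj T) hT

/-- **seam LOC**, final form -/
theorem hqFt_of_resHit {q : ℕ} [Fact q.Prime] (hj : CartHom j) (h : IsLocHom (SZ q) j)
    [IsNoetherianRing (B.obj (op ⟨0⟩))]
    (X' : Chart (B.obj (op ⟨0⟩)) (Comod B)) (hX' : Arch.IsChart B X') (H : ∀ x', Arch.ResHit X' x')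
    (x : PrimeSpectrum (A.obj (op ⟨0⟩))) (hx : ∀ n : ℕ, n.Coprime q → (n : A.obj (op ⟨0⟩)) ∉ x.asIdeal)
    (L : CM (A.obj (op ⟨0⟩))) (hL : IsTest L)
    (ε : L ⟶ (single (ModuleCat.{u} (A.obj (op ⟨0⟩))) (ComplexShape.up ℤ) 0).obj
      (ModuleCat.of (A.obj (op ⟨0⟩)) x.asIdeal.ResidueField)) [QuasiIso ε] (i : ℤ) :
    K353.HqFt (vst A) L i q := by
  have h1 := locHits_of_resHit h X' hX' H x hx L hL ε i
  have h3 : IsTest (extL j L) := by
    let _ := (jh j ⟨0⟩).toAlgebra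
    have : Module.Flat (A.obj (op ⟨0⟩)) (B.obj (op ⟨0⟩)) := h.flat
    exact isTest_extC (R := A.obj (op ⟨0⟩)) (S := B.obj (op ⟨0⟩)) hL
  exact hqFt_of_loc hj h L i fun Y hY y => hitBy_ft h3 h1 Y hY y

/-- **seam LOC**, the form for `StmtOverZ0'`: the hypothesis `HqFt` of OverZ at a point -/
theorem hqFt_point (A : NFᵒᵖ ⥤ CommRingCat.{u}) [Fact (GR A)] (hA : GRZ A)
    (H : ∀ (p : ℕ) [Fact p.Prime] [Fact (GR (K944.lam (K209.Lb.{u} p) A))]
      (X : Chart ((K944.lam (K209.Lb.{u} p) A).obj (op ⟨0⟩)) (Comod (K944.lam (K209.Lb.{u} p) A))),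
        Arch.IsChart _ X → ∀ x, Arch.ResHit X x)
    (q : ℕ) [Fact q.Prime] (x : PrimeSpectrum (A.obj (op ⟨0⟩)))
    (hx : ∀ n : ℕ, n.Coprime q → (n : A.obj (op ⟨0⟩)) ∉ x.asIdeal)
    (L : CM (A.obj (op ⟨0⟩))) (hL : IsTest L)
    (ε : L ⟶ (single (ModuleCat.{u} (A.obj (op ⟨0⟩))) (ComplexShape.up ℤ) 0).obj
      (ModuleCat.of (A.obj (op ⟨0⟩)) x.asIdeal.ResidueField)) [QuasiIso ε] (i : ℤ) :
    K353.HqFt (vst A) L i q := by
  have : Fact (GR (K944.lam (K209.Lb.{u} q) A)) := ⟨K944.gr_lam (k := K209.Lb.{u} q) hA.toGR⟩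
  have h0 : @IsLocalization ℤ _ (SZ q) (K209.Lb.{u} q) _ (Ring.toIntAlgebra _) := by
    have e : (ULift.algebra : Algebra ℤ (K209.Lb.{u} q)) = Ring.toIntAlgebra _ := Subsingleton.elim _ _
    rw [← e]
    exact K209.lb_isLocalization q
  obtain ⟨g⟩ := K799.exists_grf_p hA q
  have : Grp.IsLb q (K209.Lb.{u} q) := K209.isLb.{u} q
  have : IsNoetherianRing ((K944.lam (K209.Lb.{u} q) A).obj (op ⟨0⟩)) :=
    Arch.isNoetherianRing_of_grf (p := q) (K209.Lb.{u} q) (K944.lam (K209.Lb.{u} q) A)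
  obtain ⟨X', hX'⟩ := Arch.stmtChartEx (K944.lam (K209.Lb.{u} q) A)
  exact hqFt_of_resHit (K944.cartHom_jl (k := K209.Lb.{u} q) A) (@isLocHom_jl A (SZ q) (K209.Lb.{u} q) _ h0) X' hX'
    (H q X' hX') x hx L hL ε i

end Groth.Agent.ResProp.EF.K408
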