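import Groth.Agent.ResProp.EF.K294.Tor

/-!
# The projection formula for a ring map `R → S` and lower Tor bounds (seam LOC, L4)

* `projIso K L : (K|_R) ⊗_R L ≅ (K ⊗_S (S ⊗_R L))|_R`, `projNat L` natural in `K`.
* `torGE_res` : `S` flat over `R`, `TorGE a K` over `S` ⟹ `TorGE a (K|_R)` over `R`.
-/

set_option autoImplicit false
set_option backward.defeqAttrib.useBackward true
set_option backward.isDefEq.respectTransparency false

universe w' w v u

open CategoryTheory CategoryTheory.Limits MonoidalCategory HomologicalComplex TensorProduct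

namespace Groth.Agent.ResProp.EF.K408

open Groth.Agent.Dcoh.KFlatAbs Groth.Agent.PerfB.RingKFlat Groth.Agent.PerfB Groth.Agent.ResProp.EF.K294

variable (R S : Type u) [CommRing R] [CommRing S] [Algebra R S]

/-- base change of complexes -/
noncomputable abbrev extC : CM R ⥤ CM S := (ext R S).mapHomologicalComplex (ComplexShape.up ℤ)

/-- restriction of complexes -/
noncomputable abbrev resC : CM S ⥤ CM R := (res R S).mapHomologicalComplex (ComplexShape.up ℤ)

variable {R S}

/-- the projection formula -/
noncomputable def projIso (K : CM S) (L : CM R) : tens ((resC R S).obj K) L ≅ (resC R S).obj (tens K ((extC R S).obj L)) :=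
  BifCompare.iso (cbcData R S) K L

lemma mapBifunctorMap_TS {K K' : CM S} (f : K ⟶ K') (L : CM R) :
    mapBifunctorMap f (𝟙 L) (TS R S) (ComplexShape.up ℤ) =
      mapBifunctorMap f (𝟙 ((extC R S).obj L)) (TR S) (ComplexShape.up ℤ) := by
  refine HomologicalComplex.hom_ext _ _ fun n => ?_
  apply mapBifunctor.hom_ext
  intro p q h
  refine (ι_mapBifunctorMap f (𝟙 L) (TS R S) (ComplexShape.up ℤ) p q n h).trans ?_
  refine Eq.trans ?_ (ι_mapBifunctorMap f (𝟙 ((extC R S).obj L)) (TR S) (ComplexShape.up ℤ) p q n h).symm
  have e1 : ((TS R S).obj (K'.X p)).map ((𝟙 L : L ⟶ L).f q) = 𝟙 _ := by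
    rw [HomologicalComplex.id_f, CategoryTheory.Functor.map_id]
  have e2 : ((TR S).obj (K'.X p)).map ((𝟙 ((extC R S).obj L) : _ ⟶ _).f q) = 𝟙 _ := by
    rw [HomologicalComplex.id_f, CategoryTheory.Functor.map_id]
  rw [e1, e2]
  rfl

lemma projIso_nat {K K' : CM S} (f : K ⟶ K') (L : CM R) :
    (tensR L).map ((resC R S).map f) ≫ (projIso K' L).hom =
      (projIso K L).hom ≫ (resC R S).map ((tensR ((extC R S).obj L)).map f) := by
  have key := BifCompare.iso_naturality (cbcData R S) f (𝟙 L)
  rw [mapBifunctorMap_TS] at key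
  exact key

/-- the projection formula, natural in the complex over `S` -/
noncomputable def projNat (L : CM R) : resC R S ⋙ tensR L ≅ tensR ((extC R S).obj L) ⋙ resC R S :=
  NatIso.ofComponents (fun K => projIso K L) (fun f => projIso_nat f L)

lemma exactAt_resC {K : CM S} {i : ℤ} (h : K.ExactAt i) : ((resC R S).obj K).ExactAt i := by
  have := h.map (res R S)
  exact this

lemma exactAt_of_resC {K : CM S} {i : ℤ} (h : ((resC R S).obj K).ExactAt i) : K.ExactAt i :=
  (res R S).reflects_exact_of_faithful (K.sc i) h

lemma exactAt_extC [Module.Flat R S] {L : CM R} {i : ℤ} (h : L.ExactAt i) : ((extC R S).obj L).ExactAt i := by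
  refine exactAt_of_resC (R := R) ?_
  have := preservesHomology_tensorLeft (ModuleCat.of R S) ‹_›
  have h1 : (((tensorLeft (ModuleCat.of R S)).mapHomologicalComplex (ComplexShape.up ℤ)).obj L).ExactAt i :=
    h.map (tensorLeft (ModuleCat.of R S))
  exact h1.of_iso ((NatIso.mapHomologicalComplex (extResIso R S) (ComplexShape.up ℤ)).app L).symm

lemma isTest_extC [Module.Flat R S] {L : CM R} (h : IsTest L) : IsTest ((extC R S).obj L) where
  le := by
    have := h.le
    rw [CochainComplex.isStrictlyLE_iff] at this ⊢
    intro i hi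
    exact (ext R S).map_isZero (this i hi)
  flat n := by
    have := h.flat n
    change Module.Flat S (S ⊗[R] (L.X n))
    infer_instance
  exact i hi := exactAt_extC (h.exact i hi)

/-- lower Tor bounds over `S` are lower Tor bounds over `R` -/
theorem torGE_res [Module.Flat R S] {a : ℤ} {K : CM S} (h : TorGE a K) : TorGE a ((resC R S).obj K) := by
  intro L hL i hi
  exact (exactAt_resC (R := R) (h _ (isTest_extC hL) i hi)).of_iso (projIso K L).symm

end Groth.Agent.ResProp.EF.K408
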