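import Groth.Agent.ResProp.EF.ArchTop
import Groth.Agent.ResProp.EF.K408.Kappa
import Groth.Agent.ResProp.EF.K935.Final
import Groth.Agent.ResProp.EF.K940.HqEnd
import Groth.Agent.ResProp.EF.K926.Res

/-!
# Seam LOC, end: hits at the points of `A ⊗ ℤ_(q)` give `K353.Hq`, `K353.HqFg` for `A`
-/

set_option autoImplicit false
set_option backward.defeqAttrib.useBackward true
set_option backward.isDefEq.respectTransparency false

universe w' v' w v u

open CategoryTheory CategoryTheory.Limits MonoidalCategory HomologicalComplex TensorProduct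

namespace Groth.Agent.ResProp.EF.K408

open Groth.Agent.PerfB.RingKFlat Groth.Agent.PerfB Groth.Agent.ResProp.EF.K294

section point

variable {R S : Type u} [CommRing R] [CommRing S] [Algebra R S]

/-- points of `Spec R` disjoint from `T` are points of `Spec S`, with the same residue field -/
theorem exists_point (T : Submonoid R) [IsLocalization T S] (x : PrimeSpectrum R)
    (hx : Disjoint (T : Set R) (x.asIdeal : Set R)) : ∃ x' : PrimeSpectrum S,
      Nonempty (ModuleCat.of R x.asIdeal.ResidueField ≅ (res R S).obj (ModuleCat.of S x'.asIdeal.ResidueField)) := by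
  have h1 : x ∈ Set.range (PrimeSpectrum.comap (algebraMap R S)) := by
    rw [PrimeSpectrum.localization_comap_range S T]
    exact hx
  obtain ⟨x', rfl⟩ := h1
  refine ⟨x', ⟨LinearEquiv.toModuleIso
    (X₁ := ModuleCat.of R (PrimeSpectrum.comap (algebraMap R S) x').asIdeal.ResidueField)
    (X₂ := (res R S).obj (ModuleCat.of S x'.asIdeal.ResidueField)) ?_⟩⟩
  let f := Ideal.ResidueField.map (PrimeSpectrum.comap (algebraMap R S) x').asIdeal x'.asIdeal (algebraMap R S) rfl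
  have hf : Function.Bijective f :=
    (RingHom.surjectiveOnStalks_of_isLocalization T S).residueFieldMap_bijective _ _ rfl
  refine LinearEquiv.ofBijective (M := (PrimeSpectrum.comap (algebraMap R S) x').asIdeal.ResidueField)
    (M₂ := (res R S).obj (ModuleCat.of S x'.asIdeal.ResidueField)) ⟨⟨f, f.map_add⟩, fun r a => ?_⟩ hf
  change f (r • a) = algebraMap R S r • f a
  rw [Algebra.smul_def, map_mul, Ideal.ResidueField.map_algebraMap, Algebra.smul_def]

/-- a resolution of `κ(x)` becomes a resolution of `κ(x')` -/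
theorem homology_extC (T : Submonoid R) [IsLocalization T S] {x : PrimeSpectrum R} {x' : PrimeSpectrum S}
    (e : ModuleCat.of R x.asIdeal.ResidueField ≅ (res R S).obj (ModuleCat.of S x'.asIdeal.ResidueField))
    (L : CM R) (ε : L ⟶ (single (ModuleCat.{u} R) (ComplexShape.up ℤ) 0).obj (ModuleCat.of R x.asIdeal.ResidueField))
    [QuasiIso ε] : Nonempty (((extC R S).obj L).homology 0 ≅ ModuleCat.of S x'.asIdeal.ResidueField) := by
  obtain ⟨ε', h⟩ := exists_extC_point (S := S) T (ModuleCat.of S x'.asIdeal.ResidueField) L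
    (ε ≫ (single (ModuleCat.{u} R) (ComplexShape.up ℤ) 0).map e.hom)
  exact ⟨asIso (homologyMap ε' 0) ≪≫ (homologyFunctorSingleIso (ModuleCat.{u} S) (ComplexShape.up ℤ) 0).app _⟩

end point

open Groth.Agent.ResProp.EF.K894 Groth.Agent.ResProp.EF.K935 in
/-- hits in degree `0` give hits in all degrees -/
theorem locHits_of_allHit {S : Type u} [CommRing S] {D : Type v} [Category.{w} D] [Abelian D] (X : Chart S D) {N : CM S}
    (H : F5.AllHit X N) (j : ℤ) : LocHits X.us N j := by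
  let _ : HasDerivedCategory D := HasDerivedCategory.standard D
  let _ : HasDerivedCategory (ModuleCat.{u} S) := HasDerivedCategory.standard _
  intro Y hY y
  obtain ⟨T, hT, hTT, g, t, ht⟩ := hits_of_HL_tr closed_bdd N (HL_of_hits closed_bdd N (hits_of_allHit H)) j Y hY y
  exact ⟨T, g, t, hT, ((perfT_iff' X T).2 ⟨hT, hTT⟩).2, ht⟩

theorem LocHits.of_eq {S : Type u} [CommRing S] {D : Type v} [Category.{w} D] [Abelian D] {F G : D ⥤ ModuleCat.{u} S}
    [F.Additive] [G.Additive] (h : F = G) {L : CM S} {j : ℤ} (H : LocHits F L j) : LocHits G L j := by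
  subst h
  exact H

section main

open EF56 K784.BC K784.PM NAffine784 K940 Opposite

variable {A B : NFᵒᵖ ⥤ CommRingCat.{u}} {j : A ⟶ B} [Fact (GR A)] [Fact (GR B)]

/-- hits over the localized chart, with the properties needed by OverZ -/
theorem hitBy_vst_of_locHits [IsNoetherianRing (B.obj (op ⟨0⟩))] {L' : CM (B.obj (op ⟨0⟩))} {i : ℤ}
    (H : LocHits (vst B) L' i) (Y : CochainComplex (Comod B) ℤ) (hY : K353.Bdd Y)
    (y : (K353.hh (vst B) L' i).obj Y) :
    K353.HitBy (vst B) L' i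
      (fun T => ∀ n, Module.Finite (B.obj (op ⟨0⟩)) (((K353.vC (vst B)).obj T).homology n)) Y y := by
  obtain ⟨T, f, t, hT, ⟨Q, l, hQ, hl⟩, ht⟩ := H Y hY y
  obtain ⟨a, ha⟩ := torGE_of_quasiIso_perf hQ l hl
  exact ⟨T, f, t, a, hT, ha, fun n => finite_homology_of_perf hQ l hl n, ht⟩

omit [Fact (GR A)] in
/-- local hits at all points of `B` give local hits for resolutions of `κ(x)`, `x` a point of `A` -/
theorem locHits_of_resHit {q : ℕ} [Fact q.Prime] (h : IsLocHom (SZ q) j)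
    (X' : Chart (B.obj (op ⟨0⟩)) (Comod B)) (hX' : Arch.IsChart B X') (H : ∀ x', Arch.ResHit X' x')
    (x : PrimeSpectrum (A.obj (op ⟨0⟩))) (hx : ∀ n : ℕ, n.Coprime q → (n : A.obj (op ⟨0⟩)) ∉ x.asIdeal)
    (L : CM (A.obj (op ⟨0⟩))) (hL : IsTest L)
    (ε : L ⟶ (single (ModuleCat.{u} (A.obj (op ⟨0⟩))) (ComplexShape.up ℤ) 0).obj
      (ModuleCat.of (A.obj (op ⟨0⟩)) x.asIdeal.ResidueField)) [QuasiIso ε] (i : ℤ) :
    LocHits (vst B) (extL j L) i := by
  let _ := (jh j ⟨0⟩).toAlgebra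
  have : IsLocalization (Algebra.algebraMapSubmonoid (A.obj (op ⟨0⟩)) (SZ q)) (B.obj (op ⟨0⟩)) := h
  have : Module.Flat (A.obj (op ⟨0⟩)) (B.obj (op ⟨0⟩)) :=
    IsLocalization.flat (B.obj (op ⟨0⟩)) (Algebra.algebraMapSubmonoid (A.obj (op ⟨0⟩)) (SZ q))
  obtain ⟨x', ⟨e⟩⟩ := exists_point (S := B.obj (op ⟨0⟩)) (Algebra.algebraMapSubmonoid (A.obj (op ⟨0⟩)) (SZ q)) x (by
    rw [Set.disjoint_left]
    rintro _ ⟨s, hs, rfl⟩ hs'
    have h1 : ((s.natAbs : ℕ) : A.obj (op ⟨0⟩)) ∈ x.asIdeal := by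
      have h2 : (s : A.obj (op ⟨0⟩)) ∈ x.asIdeal := by simpa using hs'
      rcases Int.natAbs_eq s with h3 | h3
      · rw [h3, Int.cast_natCast] at h2
        exact h2
      · rw [h3, Int.cast_neg, Int.cast_natCast] at h2
        exact (neg_mem_iff).1 h2
    exact hx _ (mem_SZ.1 hs) h1)
  have h1 := homology_extC (S := B.obj (op ⟨0⟩)) (Algebra.algebraMapSubmonoid (A.obj (op ⟨0⟩)) (SZ q)) e L ε
  have h2 : F5.AllHit X' ((extC (A.obj (op ⟨0⟩)) (B.obj (op ⟨0⟩))).obj L) := H x' _ (isTest_extC hL) h1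
  exact (locHits_of_allHit X' h2 i).of_eq hX'

/-- **seam LOC**: hits at the points of `A ⊗ ℤ_(q)` give `Hq` and `HqFg` for resolutions of `κ(x)`, if all integers prime
to `q` are invertible in `κ(x)`. -/
theorem hq_of_resHit {q : ℕ} [Fact q.Prime] (hj : CartHom j) (h : IsLocHom (SZ q) j)
    [IsNoetherianRing (B.obj (op ⟨0⟩))]
    (X' : Chart (B.obj (op ⟨0⟩)) (Comod B)) (hX' : Arch.IsChart B X') (H : ∀ x', Arch.ResHit X' x')
    (x : PrimeSpectrum (A.obj (op ⟨0⟩))) (hx : ∀ n : ℕ, n.Coprime q → (n : A.obj (op ⟨0⟩)) ∉ x.asIdeal)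
    (L : CM (A.obj (op ⟨0⟩))) (hL : IsTest L)
    (ε : L ⟶ (single (ModuleCat.{u} (A.obj (op ⟨0⟩))) (ComplexShape.up ℤ) 0).obj
      (ModuleCat.of (A.obj (op ⟨0⟩)) x.asIdeal.ResidueField)) [QuasiIso ε] (i : ℤ) :
    K353.Hq (vst A) L i q ∧ K353.HqFg (vst A) L i q := by
  have h1 := locHits_of_resHit h X' hX' H x hx L hL ε i
  have h2 := fun Y hY y => hitBy_vst_of_locHits h1 Y hY y
  refine ⟨hq_of_loc hj h L i fun Y hY y => ?_, hqFg_of_loc hj h L i h2⟩
  obtain ⟨T, f, t, a, hT, ha, -, ht⟩ := h2 Y hY y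
  exact ⟨T, f, t, a, hT, ha, trivial, ht⟩

/-- **seam LOC**, the form for `StmtOverZ`: the hypotheses `Hq`, `HqFg` of OverZ at a point -/
theorem hq_point (A : NFᵒᵖ ⥤ CommRingCat.{u}) [Fact (GR A)] (hA : GRZ A)
    (H : ∀ (p : ℕ) [Fact p.Prime] [Fact (GR (K944.lam (K209.Lb.{u} p) A))]
      (X : Chart ((K944.lam (K209.Lb.{u} p) A).obj (op ⟨0⟩)) (Comod (K944.lam (K209.Lb.{u} p) A))),
        Arch.IsChart _ X → ∀ x, Arch.ResHit X x)
    (q : ℕ) [Fact q.Prime] (x : PrimeSpectrum (A.obj (op ⟨0⟩)))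
    (hx : ∀ n : ℕ, n.Coprime q → (n : A.obj (op ⟨0⟩)) ∉ x.asIdeal)
    (L : CM (A.obj (op ⟨0⟩))) (hL : IsTest L)
    (ε : L ⟶ (single (ModuleCat.{u} (A.obj (op ⟨0⟩))) (ComplexShape.up ℤ) 0).obj
      (ModuleCat.of (A.obj (op ⟨0⟩)) x.asIdeal.ResidueField)) [QuasiIso ε] (i : ℤ) :
    K353.Hq (vst A) L i q ∧ K353.HqFg (vst A) L i q := by
  have : Fact (GR (K944.lam (K209.Lb.{u} q) A)) := ⟨K944.gr_lam (k := K209.Lb.{u} q) hA.toGR⟩
  have h0 : @IsLocalization ℤ _ (SZ q) (K209.Lb.{u} q) _ (Ring.toIntAlgebra _) := by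
    have e : (ULift.algebra : Algebra ℤ (K209.Lb.{u} q)) = Ring.toIntAlgebra _ := Subsingleton.elim _ _
    rw [← e]
    exact K209.lb_isLocalization q
  obtain ⟨g⟩ := K799.exists_grf_p hA q
  have : Grp.IsLb q (K209.Lb.{u} q) := K209.isLb.{u} q
  have : IsNoetherianRing ((K944.lam (K209.Lb.{u} q) A).obj (op ⟨0⟩)) :=
    Arch.isNoetherianRing_of_grf (p := q) (K209.Lb.{u} q) (K944.lam (K209.Lb.{u} q) A)
  obtain ⟨X', hX'⟩ := Arch.stmtChartEx (K944.lam (K209.Lb.{u} q) A)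
  exact hq_of_resHit (K944.cartHom_jl (k := K209.Lb.{u} q) A) (@isLocHom_jl A (SZ q) (K209.Lb.{u} q) _ h0) X' hX' (H q X' hX') x hx L hL ε i

end main

end Groth.Agent.ResProp.EF.K408
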